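import Cfsg.Agent.N2.Cl.Kind
import Cfsg.Agent.SB.Tor.Refl
import Cfsg.Agent.H125.OrthRows
import Cfsg.Agent.S0277
import Cfsg.Agent.S0245
import Cfsg.Agent.S0286
import Cfsg.Agent.S0287
import Cfsg.Agent.S0288

/-!
# N2 classical: orders of the form parameter and of the isometry group (helper89)

* `card_sym_mul` : `|Sym| |Lmin| = |A|`;  `card_L_LR`, `card_L_U`, `card_L_Sp`, `card_L_O`
* `card_Iso_LR`, `card_Iso_U`, `card_Iso_Sp`, `card_Iso_O` (exact), `iso_le_*` (bounds), `card_Iso_le` (every form ring)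
-/

set_option autoImplicit false
set_option linter.unusedSectionVars false
set_option maxHeartbeats 200000

namespace Cfsg.Agent.N2C.Size

open Cfsg Cfsg.Agent.DS.Cl Cfsg.Agent.DS.Cl.Fwd Module
open Cfsg.Agent.SB.Cl (IsU IsSp IsO)

/-! ### numbers -/

/-- `|Sp_{2m}(q)|` -/
def oS (m q : ℕ) : ℕ := q ^ (m ^ 2) * ∏ i ∈ Finset.range m, (q ^ (2 * (i + 1)) - 1)

/-- `|GU_n(q)|` -/
def oU (n q : ℕ) : ℕ := q ^ (n * (n - 1) / 2) * ∏ i ∈ Finset.range n, (if Even i then q ^ (i + 1) + 1 else q ^ (i + 1) - 1)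

/-- `|O⁺_{2k+2}(q)|` -/
def oP (k q : ℕ) : ℕ := 2 * q ^ ((k + 1) * k) * (q ^ (k + 1) - 1) * ∏ i ∈ Finset.range k, (q ^ (2 * (i + 1)) - 1)

/-- `|O⁻_{2k+2}(q)|` -/
def oM (k q : ℕ) : ℕ := 2 * q ^ ((k + 1) * k) * (q ^ (k + 1) + 1) * ∏ i ∈ Finset.range k, (q ^ (2 * (i + 1)) - 1)

theorem prod_le (m q : ℕ) : ∏ i ∈ Finset.range m, (q ^ (2 * (i + 1)) - 1) ≤ q ^ (m * (m + 1)) := by
  induction m with
  | zero => simp
  | succ m ih =>
    rw [Finset.prod_range_succ, show (m + 1) * (m + 1 + 1) = m * (m + 1) + 2 * (m + 1) by ring, pow_add]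
    exact Nat.mul_le_mul ih (Nat.sub_le _ _)

theorem oS_le (m q : ℕ) : oS m q ≤ q ^ (m * (2 * m + 1)) := by
  rw [oS, show m * (2 * m + 1) = m ^ 2 + m * (m + 1) by ring, pow_add]
  exact Nat.mul_le_mul_left _ (prod_le m q)

theorem oP_le (k q : ℕ) : oP k q ≤ 2 * q ^ ((k + 1) * (2 * k + 1)) := by
  rw [oP, show (k + 1) * (2 * k + 1) = (k + 1) * k + (k + 1) + k * (k + 1) by ring, pow_add q (_ + _),
    pow_add q (_ * _), ← mul_assoc, ← mul_assoc]
  exact Nat.mul_le_mul (Nat.mul_le_mul_left _ (Nat.sub_le _ _)) (prod_le k q)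

theorem pm_le {q a b : ℕ} (hq : 1 ≤ q) (h : a ≤ b) : (q ^ a - 1) * (q ^ b + 1) ≤ q ^ (a + b) := by
  have h1 := Nat.pow_le_pow_right hq h
  have h2 : 1 ≤ q ^ a := Nat.one_le_pow _ _ hq
  obtain ⟨x, hx⟩ := Nat.exists_eq_add_of_le h2
  rw [hx] at h1
  rw [pow_add, hx, Nat.add_sub_cancel_left]
  nlinarith

theorem oM_le {k q : ℕ} (hq : 1 ≤ q) (hk : 1 ≤ k) : oM k q ≤ 2 * q ^ ((k + 1) * (2 * k + 1)) := by
  have key : ∀ j, (q ^ (k + 1) + 1) * ∏ i ∈ Finset.range (j + 1), (q ^ (2 * (i + 1)) - 1) ≤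
      q ^ (k + 1 + (j + 1) * (j + 2)) := by
    intro j
    induction j with
    | zero => simpa [mul_comm, add_comm] using pm_le hq (show 2 ≤ k + 1 by omega)
    | succ j ih =>
      rw [Finset.prod_range_succ, ← mul_assoc,
        show k + 1 + (j + 1 + 1) * (j + 1 + 2) = k + 1 + (j + 1) * (j + 2) + 2 * (j + 1 + 1) by ring, pow_add q (_ + _)]
      exact Nat.mul_le_mul ih (Nat.sub_le _ _)
  obtain ⟨j, rfl⟩ := Nat.exists_eq_add_of_le' hk
  rw [oM, mul_assoc, mul_assoc, show (j + 1 + 1) * (2 * (j + 1) + 1) =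
    (j + 1 + 1) * (j + 1) + (j + 1 + 1 + (j + 1) * (j + 2)) by ring, pow_add q (_ * _)]
  exact Nat.mul_le_mul_left _ (Nat.mul_le_mul_left _ (key j))

theorem oU_succ (n q : ℕ) : oU (n + 1) q = oU n q * (q ^ n * if Even n then q ^ (n + 1) + 1 else q ^ (n + 1) - 1) := by
  have e : (n + 1) * (n + 1 - 1) / 2 = n * (n - 1) / 2 + n := by
    rw [← Nat.choose_two_right, ← Nat.choose_two_right, Nat.choose_succ_succ', Nat.choose_one_right, add_comm]
  rw [oU, oU, Finset.prod_range_succ, e, pow_add]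
  ring

theorem oU_le {q : ℕ} (hq : 1 ≤ q) (n : ℕ) : q * oU n q ≤ (q + 1) * q ^ (n ^ 2) := by
  have key : ∀ j, q * oU (2 * j + 1) q ≤ (q + 1) * q ^ ((2 * j + 1) ^ 2) := by
    intro j
    induction j with
    | zero => simp [oU, mul_comm]
    | succ j ih =>
      have h1 := pm_le hq (show 2 * j + 1 + 1 ≤ 2 * j + 1 + 1 + 1 by omega)
      rw [show 2 * (j + 1) + 1 = 2 * j + 1 + 1 + 1 by ring, oU_succ, oU_succ, if_neg (by simp),
        if_pos (show Even (2 * j + 1 + 1) from ⟨j + 1, by ring⟩), show (2 * j + 1 + 1 + 1) ^ 2 =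
          (2 * j + 1) ^ 2 + ((2 * j + 1) + (2 * j + 1 + 1) + (2 * j + 1 + 1 + (2 * j + 1 + 1 + 1))) by ring,
        pow_add q ((2 * j + 1) ^ 2), pow_add q (2 * j + 1 + (2 * j + 1 + 1)), pow_add q (2 * j + 1) (2 * j + 1 + 1)]
      calc _ = q * oU (2 * j + 1) q * (q ^ (2 * j + 1) * q ^ (2 * j + 1 + 1) *
            ((q ^ (2 * j + 1 + 1) - 1) * (q ^ (2 * j + 1 + 1 + 1) + 1))) := by ring
        _ ≤ _ := by
          rw [← mul_assoc (q + 1)]
          exact Nat.mul_le_mul ih (Nat.mul_le_mul_left _ h1)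
  rcases Nat.even_or_odd' n with ⟨j, rfl | rfl⟩
  · rcases j with _ | j
    · simp [oU]
    · rw [show 2 * (j + 1) = 2 * j + 1 + 1 by ring, oU_succ, if_neg (by simp), ← mul_assoc,
        show (2 * j + 1 + 1) ^ 2 = (2 * j + 1) ^ 2 + ((2 * j + 1) + (2 * j + 1 + 1)) by ring, pow_add q ((2 * j + 1) ^ 2),
        pow_add q (2 * j + 1) (2 * j + 1 + 1), ← mul_assoc (q + 1)]
      exact Nat.mul_le_mul (key j) (Nat.mul_le_mul_left _ (Nat.sub_le _ _))
  · exact key j

/-! ### the form parameter -/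

section ring

variable {A : Type} [Ring A] [StarRing A]

/-- the symmetric elements -/
def Sym (A : Type) [Ring A] [StarRing A] : AddSubgroup A where
  carrier := {x | star x = x}
  add_mem' := fun {a b} (ha : star a = a) (hb : star b = b) => show star (a + b) = a + b by rw [star_add, ha, hb]
  zero_mem' := star_zero A
  neg_mem' := fun {a} (ha : star a = a) => show star (-a) = -a by rw [star_neg, ha]

theorem card_sym_mul : Nat.card (Sym A) * Nat.card (Lmin A) = Nat.card A := by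
  let f : A →+ A := AddMonoidHom.id A - starAddEquiv.toAddMonoidHom
  have h1 : f.ker = Sym A := AddSubgroup.ext fun x => (sub_eq_zero (a := x) (b := star x)).trans eq_comm
  have h2 : f.range = Lmin A := AddSubgroup.ext fun x => exists_congr fun _ => eq_comm
  rw [← h1, ← h2, ← AddSubgroup.index_ker, AddSubgroup.card_mul_index]

/-- a central skew unit identifies symmetric and skew elements -/
theorem card_sym_eq {δ : Aˣ} (h1 : (δ : A) ∈ Subring.center A) (h2 : star (δ : A) = -δ) :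
    Nat.card (Sym A) = Nat.card (Lmax A) :=
  Nat.card_congr ((Units.mulLeft δ).subtypeEquiv fun x => by
    change star x = x ↔ star (δ * x) = -(δ * x)
    rw [star_mul, h2, mul_neg, cen_comm h1, neg_inj, Units.mul_right_inj])

end ring

section LR

variable {K : Type} [Field K] [Fintype K] {n : ℕ} (F : FR (LR (Fin n) K))

theorem L_LR : F.L = Lmax _ := F.L_eq (c := LR.mk 1 0) (Subring.mem_center_iff.2 fun g => by
  obtain ⟨a, b, rfl⟩ := LR.exists_mk g
  rw [LR.mk_mul, LR.mk_mul, mul_one, one_mul, mul_zero, zero_mul]) LR.half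

theorem card_mat : Nat.card (Matrix (Fin n) (Fin n) K) = Fintype.card K ^ (n ^ 2) := by
  change Nat.card (Fin n → Fin n → K) = _
  rw [Nat.card_fun, Nat.card_fun, Nat.card_eq_fintype_card, Nat.card_eq_fintype_card, Fintype.card_fin, ← pow_mul, sq]

theorem card_LR : Nat.card (LR (Fin n) K) = Fintype.card K ^ (2 * n ^ 2) := by
  change Nat.card (Matrix (Fin n) (Fin n) K × Matrix (Fin n) (Fin n) K) = _
  rw [Nat.card_prod, card_mat, ← pow_add, two_mul]

theorem card_L_LR : Nat.card F.L = Fintype.card K ^ (n ^ 2) := by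
  rw [L_LR, ← card_mat]
  exact Nat.card_eq_of_bijective (fun x => x.1.1) ⟨fun x y h => Subtype.ext (Prod.ext h (Matrix.transpose_injective
    ((congrArg Prod.fst x.2).trans ((congrArg Neg.neg h).trans (congrArg Prod.fst y.2).symm)))),
    fun a => ⟨⟨LR.mk a (-a.transpose), Prod.ext (show (-a.transpose).transpose = -a by simp)
      (show a.transpose = - -a.transpose by simp)⟩, rfl⟩⟩

theorem Iso_LR : F.Iso = (LR.gl (ι := Fin n) (F := K)).range :=
  Subgroup.ext fun u => ⟨fun h => (LR.mem_gl u).2 h.1, fun h => mem_Iso_max (L_LR F) ((LR.mem_gl u).1 h)⟩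

theorem gl_inj : Function.Injective (LR.gl (ι := Fin n) (F := K)) := fun _ _ h =>
  Units.ext (congrArg (fun u : (LR (Fin n) K)ˣ => (u : LR (Fin n) K).1) h)

theorem card_Iso_LR : Nat.card F.Iso = Nat.card (GL (Fin n) K) := by
  rw [Iso_LR]
  exact (Nat.card_congr (MonoidHom.ofInjective gl_inj).toEquiv).symm

theorem iso_le_LR : Nat.card F.Iso ≤ Nat.card F.L := by
  rw [card_Iso_LR, card_L_LR, ← card_mat]
  exact Nat.card_le_card_of_injective _ Units.val_injective

end LR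

section hf

variable {K V : Type} [Field K] [Fintype K] [AddCommGroup V] [Module K V] [Finite V] {h : HF K V} {F : FR h.EB}

theorem card_EB (h : HF K V) : Nat.card h.EB = Fintype.card K ^ (finrank K V ^ 2) := by
  change Nat.card (End K V) = _
  rw [Module.natCard_eq_pow_finrank (K := K), finrank_linearMap, Nat.card_eq_fintype_card, sq]

theorem card_L_U (hU : IsU h) {q : ℕ} (hq : Fintype.card K = q ^ 2) : Nat.card F.L = q ^ (finrank K V ^ 2) := by
  obtain ⟨c, hc⟩ := hU.2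
  have h0 : c - h.τ c ≠ 0 := sub_ne_zero.2 hc.symm
  let δ : h.EBˣ := ⟨h.eb ((c - h.τ c) • 1), h.eb ((c - h.τ c)⁻¹ • 1), by rw [scal_mul, mul_inv_cancel₀ h0, scal_one],
    by rw [scal_mul, inv_mul_cancel₀ h0, scal_one]⟩
  have h1 := card_sym_mul (A := h.EB)
  rw [card_sym_eq (δ := δ) (h.smul_mem_center _) ((star_scal h _).trans (by
    rw [map_sub, h.τ_τ, ← neg_sub]
    exact neg_smul _ (1 : End K V))), (L_eq_U hU F).2, ← (L_eq_U hU F).1, card_EB, hq, ← pow_mul, mul_comm 2, pow_mul,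
    ← sq] at h1
  exact Nat.pow_left_injective two_ne_zero h1

/-- the number of operators with a symmetric form -/
theorem card_symm (hτ : ∀ c, h.τ c = c) : Nat.card {a : h.EB // ∀ u v, h.b u (h.ap a v) = h.b v (h.ap a u)} =
    Fintype.card K ^ (finrank K V + 1).choose 2 := by
  classical
  let c := finBasis K V
  let β : h.EB → V →ₗ[K] V →ₗ[K] K := fun a => LinearMap.mk₂ K (fun u v => h.b u (h.ap a v)) (fun _ _ _ => h.add_left _ _ _)
    (fun _ _ _ => h.smul_left _ _ _) (fun _ _ _ => by rw [map_add, h.add_right])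
    fun _ _ _ => by rw [map_smul, h.smul_right, hτ, smul_eq_mul]
  have h1 : Nat.card (Sym2 (Fin (finrank K V)) → K) = Fintype.card K ^ (finrank K V + 1).choose 2 := by
    rw [Nat.card_fun, Nat.card_eq_fintype_card, Nat.card_eq_fintype_card, Sym2.card, Fintype.card_fin]
  rw [← h1, ← Nat.card_congr Sym2.lift]
  refine Nat.card_eq_of_bijective (fun a => ⟨fun i j => h.b (c i) (h.ap a.1 (c j)), fun i j => a.2 _ _⟩)
    ⟨fun a a' k => Subtype.ext (h.ap_ext fun v => h.ext_right fun u => ?_), fun M => ?_⟩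
  · exact LinearMap.congr_fun₂ (show β a = β a' from LinearMap.ext_basis c c fun i j =>
      congrFun (congrFun (congrArg Subtype.val k) i) j) u v
  · obtain ⟨a, ha⟩ := h.exists_op hτ (Matrix.toBilin c (Matrix.of M.1))
    refine ⟨⟨a, fun u v => ?_⟩, Subtype.ext (funext₂ fun i j => ?_)⟩
    · rw [ha, ha]
      exact LinearMap.congr_fun₂ (show Matrix.toBilin c (Matrix.of M.1) = (Matrix.toBilin c (Matrix.of M.1)).flip from
        LinearMap.ext_basis c c fun i j => by
          change _ = Matrix.toBilin c (Matrix.of M.1) (c j) (c i)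
          rw [Matrix.toBilin_apply, Matrix.toBilin_apply]
          simp [Finsupp.single_apply, M.2 i j]) u v
    · change h.b _ _ = _
      rw [ha, Matrix.toBilin_apply]
      simp [Finsupp.single_apply]

theorem alt_swap (hb : ∀ v, h.b v v = 0) (u v : V) : h.b u v = -h.b v u := by
  have h1 := hb (u + v)
  rw [h.add_left, h.add_right, h.add_right, hb, hb] at h1
  linear_combination h1

theorem card_L_Sp (hS : IsSp h F) : Nat.card F.L = Fintype.card K ^ (finrank K V + 1).choose 2 := by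
  rw [hS.2.2, ← card_symm hS.1]
  refine Nat.card_congr (Equiv.subtypeEquivRight fun a => ⟨fun k u v => ?_, fun k => ?_⟩)
  · rw [alt_swap hS.2.1 v, ← h.b_star, show star a = -a from k]
    change _ = -h.b u (-h.ap a v)
    rw [← zero_sub (h.ap a v), h.sub_right, h.zero_right, zero_sub, neg_neg]
  · refine h.ap_ext fun v => h.ext_right fun u => ?_
    change _ = h.b u (-h.ap a v)
    rw [h.b_star, alt_swap hS.2.1, ← k, ← zero_sub (h.ap a v), h.sub_right, h.zero_right, zero_sub]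

theorem card_L_O {Q : QuadraticForm K V} (hO : IsO h F Q) : Nat.card F.L = Fintype.card K ^ (finrank K V).choose 2 := by
  have hb : ∀ u v, h.b u v = h.b v u := fun u v => by rw [hO.2.1, hO.2.1, QuadraticMap.polar_comm]
  have h1 := card_sym_mul (A := h.EB)
  have h2 : Nat.card (Sym h.EB) = Fintype.card K ^ (finrank K V + 1).choose 2 := by
    rw [← card_symm hO.1]
    refine Nat.card_congr (Equiv.subtypeEquivRight fun a => ⟨fun k u v => ?_, fun k => ?_⟩)
    · rw [hb v, ← h.b_star, show star a = a from k]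
    · exact h.ap_ext fun v => h.ext_right fun u => by rw [h.b_star, hb, k]
  have e : finrank K V ^ 2 = (finrank K V + 1).choose 2 + (finrank K V).choose 2 := by
    generalize finrank K V = n
    induction n with
    | zero => rfl
    | succ n ih =>
      rw [Nat.choose_succ_succ' (n + 1), Nat.choose_succ_succ' n 1, Nat.choose_one_right, Nat.choose_one_right] at *
      nlinarith
  rw [h2, card_EB, e, pow_add, ← hO.2.2.1] at h1
  exact Nat.eq_of_mul_eq_mul_left (pow_pos Fintype.card_pos _) h1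

theorem card_Iso_eq {X : Subgroup (V ≃ₗ[K] V)} (k : ∀ u : h.EBˣ, u ∈ F.Iso ↔ P5.toLE (RingEquiv.refl (End K V)) u ∈ X) :
    Nat.card F.Iso = Nat.card X := by
  obtain ⟨φ⟩ := P5.equiv_of (A := h.EB) (RingEquiv.refl (End K V)) k
  exact (Nat.card_congr φ.toEquiv).symm

theorem card_Iso_max (hL : F.L = Lmax _) : Nat.card F.Iso = Nat.card (Vec.Isom K h.b) :=
  card_Iso_eq fun u => ⟨fun k => (h.unit_iff u).1 k.1, fun k => mem_Iso_max hL ((h.unit_iff u).2 k)⟩

theorem card_Iso_U (hU : IsU h) {q : ℕ} (hq : Fintype.card K = q ^ 2) : Nat.card F.Iso = oU (finrank K V) q := by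
  have hσ : h.τ ≠ RingHom.id K := fun k => hU.2.elim fun c hc => hc (by rw [k]; rfl)
  obtain ⟨q', -, hq', hσq⟩ := H324.FC.exists_q (RingEquiv.ofRingHom h.τ h.τ (RingHom.ext h.τ_τ) (RingHom.ext h.τ_τ)) h.τ_τ
    hU.2
  have hσq' : ∀ x, h.τ x = x ^ q' := hσq
  rw [Nat.card_eq_fintype_card, hq] at hq'
  obtain rfl : q = q' := Nat.pow_left_injective two_ne_zero hq'
  let b : V →ₛₗ[h.τ] V →ₗ[K] K :=
    { toFun := h.lin
      map_add' := fun _ _ => LinearMap.ext fun _ => h.add_right _ _ _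
      map_smul' := fun _ _ => LinearMap.ext fun _ => h.smul_right _ _ _ }
  obtain ⟨c, hc⟩ := ClassicalGeometry.HermOrthonormal.exists_orthonormal_basis hσ h.τ_τ b
    ⟨fun x y => show h.τ (h.b y x) = h.b x y by rw [h.swap y x, hU.1, one_mul]⟩ h.nondeg
  obtain ⟨φ⟩ := Vec.exists_equiv c.equivFun.symm (hermForm _ K q) (fun v w => b w v) fun u v => by
    simp only [Module.Basis.equivFun_symm_apply, map_sum, LinearMap.sum_apply, LinearMap.map_smulₛₗ, map_smul,
      LinearMap.smul_apply, hc, smul_eq_mul, mul_ite, mul_one, mul_zero, Finset.sum_ite_eq', Finset.mem_univ, if_true,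
      hσq', hermForm]
  rw [card_Iso_max (L_eq_U hU F).1]
  exact (Nat.card_congr φ.toEquiv).symm.trans (S0277.result hq _)

theorem card_Iso_Sp (hS : IsSp h F) : ∃ m, finrank K V = 2 * m ∧ Nat.card F.Iso = oS m (Fintype.card K) := by
  let b : LinearMap.BilinForm K V := LinearMap.mk₂ K h.b h.add_left h.smul_left h.add_right
    fun _ _ _ => by rw [h.smul_right, hS.1, smul_eq_mul]
  have hb : b.IsAlt := hS.2.1
  have hs : b.SeparatingLeft := fun v hv => h.nondeg v fun u => by rw [alt_swap hS.2.1, show h.b v u = 0 from hv u, neg_zero]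
  obtain ⟨m, l, c, -, -, -, h4⟩ := Cfsg.Agent.S0752.result b hb
  have hl : l = 0 := by
    by_contra hl
    exact c.ne_zero _ (hs _ (h4 ⟨0, Nat.pos_of_ne_zero hl⟩))
  subst hl
  have hm : finrank K V = 2 * m := by
    rw [finrank_eq_card_basis c]
    simp [two_mul]
  obtain ⟨e, he⟩ := ClassicalGeometry.SympIso.exists_linearEquiv_sympForm b hb hs hm
  obtain ⟨φ⟩ := Vec.exists_equiv e (sympForm m K) h.b he
  refine ⟨m, hm, ?_⟩
  rw [card_Iso_max hS.2.2, ← Nat.card_congr φ.toEquiv, oS, ← S0245.result (F := K) rfl m]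
  let f : Matrix.symplecticGroup (Fin m) K →*
      preserving (Units.coeHom (Matrix (Fin m ⊕ Fin m) (Fin m ⊕ Fin m) K)) (sympForm m K) :=
    (Matrix.symplecticGroup (Fin m) K).subtype.toHomUnits.codRestrict _ fun x =>
      ClassicalGeometry.SympBasic.mem_symplecticGroup_iff.1 x.2
  exact (Nat.card_eq_of_bijective f ⟨fun x y k => Subtype.ext (congrArg (fun z => z.1.1) k), fun g =>
    ⟨⟨g.1, ClassicalGeometry.SympBasic.mem_symplecticGroup_iff.2 g.2⟩, Subtype.ext (Units.ext rfl)⟩⟩).symm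

open LieClassical.OrthCore in
theorem nondeg_O {Q : QuadraticForm K V} (hO : IsO h F Q) : Nondeg Q := fun x hx =>
  h.nondeg x fun y => by rw [hO.2.1, QuadraticMap.polar_comm, hx]

open LieClassical.OrthCore in
theorem card_Iso_O {Q : QuadraticForm K V} (hO : IsO h F Q) (h0 : 0 < finrank K V) :
    (∃ m, finrank K V = 2 * m + 1 ∧ Odd (Fintype.card K) ∧ Nat.card F.Iso = 2 * oS m (Fintype.card K)) ∨
    ∃ k, finrank K V = 2 * (k + 1) ∧ (Nat.card F.Iso = oP k (Fintype.card K) ∨ Nat.card F.Iso = oM k (Fintype.card K)) := by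
  have h1 : Nat.card F.Iso = Nat.card (O Q) := card_Iso_eq fun u => by
    rw [mem_O]
    exact SB.Tor.mem_Iso_O hO u
  have hQ := nondeg_O hO
  rcases Nat.even_or_odd' (finrank K V) with ⟨m, hm | hm⟩
  · obtain ⟨k, rfl⟩ := Nat.exists_eq_add_of_le' (show 1 ≤ m by omega)
    refine Or.inr ⟨k, hm, ?_⟩
    rcases H174.exists_std (by omega) hm Q ⟨fun x hx => hQ x hx, fun x hx => hQ x fun y => by
      rw [QuadraticMap.polar_comm]; exact hx y⟩ with ⟨g, hg⟩ | ⟨ζ, g, hζ, hg⟩
    · obtain ⟨φ⟩ := Vec.O_equiv g _ Q one_ne_zero fun v => by rw [one_mul, hg]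
      exact Or.inl (h1.trans ((Nat.card_congr φ.toEquiv).symm.trans (S0287.result rfl _ (by omega))))
    · obtain ⟨φ⟩ := Vec.O_equiv g _ Q one_ne_zero fun v => by rw [one_mul, hg]
      refine Or.inr (h1.trans ((Nat.card_congr φ.toEquiv).symm.trans (S0288.result rfl _ (by omega) 1 ζ ?_)))
      intro z₁ z₂ k
      by_cases h2 : z₂ = 0
      · rw [h2] at k
        exact ⟨by simpa using k, h2⟩
      · refine absurd ?_ (hζ (z₁ / z₂))
        field_simp
        linear_combination k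
  · obtain ⟨h2, c, hc, j, hj⟩ := H125.OrthLoc.exists_sim_odd hQ hm
    have hodd : Odd (Fintype.card K) :=
      Nat.odd_iff.2 (FiniteField.odd_card_of_char_ne_two fun k => h2 (by
        have := (ringChar.spec K 2).2 (by rw [k])
        exact_mod_cast this))
    obtain ⟨φ⟩ := Vec.O_equiv j.symm (quadFormOdd m K) Q hc fun v => by
      rw [← LieClassical.QuadForms.coe_oddForm, ← hj, j.apply_symm_apply]
    refine Or.inl ⟨m, hm, hodd, h1.trans ((Nat.card_congr φ.toEquiv).symm.trans ?_)⟩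
    rw [S0286.result rfl hodd, oS, mul_assoc]

theorem exists_q (hU : IsU h) : ∃ q, 2 ≤ q ∧ Fintype.card K = q ^ 2 := by
  obtain ⟨q, -, hq, -⟩ := H324.FC.exists_q (RingEquiv.ofRingHom h.τ h.τ (RingHom.ext h.τ_τ) (RingHom.ext h.τ_τ)) h.τ_τ hU.2
  rw [Nat.card_eq_fintype_card] at hq
  refine ⟨q, ?_, hq⟩
  have h1 : 1 < Fintype.card K := Fintype.one_lt_card
  by_contra h2
  have : q ^ 2 ≤ 1 ^ 2 := Nat.pow_le_pow_left (by omega) 2
  omega

theorem iso_le_U (hU : IsU h) {q : ℕ} (hq : Fintype.card K = q ^ 2) : q * Nat.card F.Iso ≤ (q + 1) * Nat.card F.L := by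
  rw [card_Iso_U hU hq, card_L_U hU hq]
  refine oU_le (Nat.pos_of_ne_zero ?_) _
  rintro rfl
  exact Fintype.card_ne_zero hq

theorem iso_le_Sp (hS : IsSp h F) : Nat.card F.Iso ≤ Nat.card F.L := by
  obtain ⟨m, h1, h2⟩ := card_Iso_Sp hS
  rw [h2, card_L_Sp hS, h1, Nat.choose_two_right, Nat.add_sub_cancel, mul_comm 2 m, ← mul_assoc,
    Nat.mul_div_cancel _ two_pos, mul_comm _ m, mul_comm m 2]
  exact oS_le _ _

theorem iso_le_O {Q : QuadraticForm K V} (hO : IsO h F Q) (h0 : 0 < finrank K V) (h2 : finrank K V ≠ 2) :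
    Nat.card F.Iso ≤ 2 * Nat.card F.L := by
  rw [card_L_O hO]
  rcases card_Iso_O hO h0 with ⟨m, h1, -, h3⟩ | ⟨k, h1, h3⟩
  · rw [h3, h1, Nat.choose_two_right, Nat.add_sub_cancel, mul_comm 2 m, ← mul_assoc,
      Nat.mul_div_cancel _ two_pos, mul_comm _ m, mul_comm m 2]
    exact Nat.mul_le_mul_left _ (oS_le _ _)
  · rw [h1, Nat.choose_two_right, mul_assoc, Nat.mul_div_cancel_left _ two_pos, show 2 * (k + 1) - 1 = 2 * k + 1 by omega]
    rcases h3 with h3 | h3 <;> rw [h3]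
    · exact oP_le _ _
    · exact oM_le Fintype.card_pos (by omega)

theorem iso_le_O2 {Q : QuadraticForm K V} (hO : IsO h F Q) (h2 : finrank K V = 2) :
    Nat.card F.Iso ≤ 2 * (Fintype.card K + 1) := by
  rcases card_Iso_O hO (by omega) with ⟨m, h1, -, -⟩ | ⟨k, h1, h3⟩
  · omega
  · obtain rfl : k = 0 := by omega
    rcases h3 with h3 | h3 <;> simp [h3, oP, oM]
    omega

theorem iso_le_kd (k : Kd h F) (h0 : 0 < finrank K V) : Nat.card F.Iso ≤ 3 * Nat.card F.L := by
  rcases k with ⟨hU, -⟩ | hS | ⟨Q, hO⟩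
  · obtain ⟨q, h1, hq⟩ := exists_q hU
    have := iso_le_U (F := F) hU hq
    nlinarith
  · have := iso_le_Sp hS
    omega
  · by_cases h2 : finrank K V = 2
    · have h1 := iso_le_O2 hO h2
      have h3 : 1 < Fintype.card K := Fintype.one_lt_card
      rw [card_L_O hO, h2, Nat.choose_self, pow_one]
      omega
    · have := iso_le_O hO h0 h2
      omega

end hf

/-- **the isometry group of a form ring** -/
theorem card_Iso_le {A : Type} [Ring A] [StarRing A] [Finite A] (ss : SS A) (F : FR A) :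
    Nat.card F.Iso ≤ 3 * Nat.card F.L := by
  rcases exists_kind ss F with ⟨K, _, _, n, e, -, he⟩ | ⟨K, _, _, n, h, e, he, hn, k⟩ <;>
    rw [← card_fm_Iso he, ← card_fm_L he]
  · have := iso_le_LR (fm F he)
    omega
  · exact iso_le_kd k (by rwa [finrank_fin_fun])

/-! ### projective and conformal groups -/

section conf

variable {A : Type} [Ring A] [StarRing A] [Finite A]

/-- the central unitary elements -/
def UC (A : Type) [Ring A] [StarRing A] : Subgroup Aˣ where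
  carrier := {z | (z : A) ∈ Subring.center A ∧ (z : A) * star (z : A) = 1}
  one_mem' := ⟨one_mem _, by simp⟩
  mul_mem' := fun {a b} ha hb => ⟨mul_mem ha.1 hb.1, by
    rw [Units.val_mul, star_mul, mul_assoc, ← mul_assoc (b : A), hb.2, one_mul, ha.2]⟩
  inv_mem' := fun {a} ha => ⟨inv_cen ha.1, by
    rw [star_eq_inv ha.2, star_star, ← star_eq_inv ha.2, Units.inv_mul]⟩

theorem UC_le (F : FR A) : UC A ≤ F.Iso := fun z hz =>
  FR.mem_Iso_of_cj hz.2 (by rw [cj_eq_one_iff.2 hz.1]; exact one_mem _)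

theorem card_PI (F : FR A) : Nat.card F.PI * Nat.card (UC A) = Nat.card F.Iso := by
  let f : F.Iso →* RingAut A := (cj A).comp F.Iso.subtype
  have h1 : f.range = F.PI := by rw [MonoidHom.range_comp, Subgroup.range_subtype]; rfl
  have h2 : f.ker = (UC A).subgroupOf F.Iso :=
    Subgroup.ext fun u => cj_eq_one_iff.trans ⟨fun k => ⟨k, u.2.1⟩, fun k => k.1⟩
  rw [← h1, ← Subgroup.index_ker, ← Nat.card_congr (Subgroup.subgroupOfEquivOfLe (UC_le F)).toEquiv, ← h2,
    Subgroup.index_mul_card]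

theorem isField_C0 (ss : SS A) : IsField (C0 A) := by
  have := ss.1
  refine ⟨exists_pair_ne _, fun x y => Subtype.ext (cen_comm y.2.1 _), fun {x} hx => ?_⟩
  obtain ⟨u, hu⟩ := ss.isUnit_of_cen x.2.1 x.2.2 fun k => hx (Subtype.ext k)
  have h1 : star ((u⁻¹ : Aˣ) : A) = (u⁻¹ : Aˣ) := by
    refine Units.eq_inv_of_mul_eq_one_left ?_
    have h1 := congrArg star u.inv_mul
    rwa [star_mul, star_one, hu, x.2.2, ← hu] at h1
  have h2 : (x : A) * (u⁻¹ : Aˣ) = 1 := hu ▸ u.mul_inv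
  exact ⟨⟨(u⁻¹ : Aˣ), inv_cen (hu ▸ x.2.1), h1⟩, Subtype.ext h2⟩

/-- a similitude whose multiplier is a norm is an isometry up to a scalar -/
theorem mem_PI_of_norm (F : FR A) {g : Aˣ} (hg : cj A g ∈ F.Aut) {c : A} (hc : c ∈ Subring.center A)
    (h : star (g : A) * g = star c * c) : cj A g ∈ F.PI := by
  have h1 : IsUnit c := by
    have h2 : IsUnit (star c * c) := h ▸ (g.isUnit.star.mul g.isUnit)
    exact (IsUnit.mul_iff.1 h2).2
  obtain ⟨z, rfl⟩ := h1
  have h2 : cj A (g * z⁻¹) = cj A g := cj_eq_iff.2 ⟨z⁻¹, inv_cen hc, rfl⟩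
  refine ⟨g * z⁻¹, FR.mem_Iso_of_cj (mul_eq_one_comm.1 ?_) (h2 ▸ hg), h2⟩
  rw [Units.val_mul, star_mul, mul_assoc, ← mul_assoc (star (g : A)), h, mul_assoc, Units.mul_inv, mul_one, ← star_mul,
    Units.mul_inv, star_one]

theorem relIndex_PI (ss : SS A) (F : FR A) : F.PI.relIndex (F.Aut ⊓ Lin A) ∣ 2 := by
  classical
  have := ss.1
  let _ := (isField_C0 ss).toField
  have _ := Fintype.ofFinite (C0 A)
  have key : ∀ γ : ↥(F.Aut ⊓ Lin A), ∃ (g : Aˣ) (μ : C0 A), γ.1 = cj A g ∧ star (g : A) * g = μ ∧ μ ≠ 0 := fun γ => by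
    obtain ⟨g, hg⟩ := ss.sn γ.2.2
    refine ⟨g, ⟨_, cj_SAut_cen (hg ▸ F.Aut_le_SAut γ.2.1), by rw [star_mul, star_star]⟩, hg, rfl, fun k => ?_⟩
    exact (g.isUnit.star.mul g.isUnit).ne_zero (congrArg Subtype.val k)
  have sq : ∀ (g : Aˣ) (μ : C0 A), cj A g ∈ F.Aut → star (g : A) * g = μ → IsSquare μ → cj A g ∈ F.PI := by
    rintro g _ hg h ⟨c, rfl⟩
    exact mem_PI_of_norm F hg c.2.1 (by rw [h, c.2.2]; rfl)
  refine Subgroup.index_dvd_two_iff.2 ?_
  by_cases h : ∀ γ : ↥(F.Aut ⊓ Lin A), γ ∈ F.PI.subgroupOf _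
  · exact ⟨1, fun b => Or.inr (h b)⟩
  obtain ⟨a, ha⟩ := not_forall.1 h
  refine ⟨a, fun b => or_iff_not_imp_right.2 fun hb => ?_⟩
  obtain ⟨g, μ, h1, h2, h3⟩ := key a
  obtain ⟨g', μ', h4, h5, h6⟩ := key b
  rw [Subgroup.mem_subgroupOf] at ha hb ⊢
  have h7 : ¬ IsSquare μ := fun k => ha (h1 ▸ sq g μ (h1 ▸ a.2.1) h2 k)
  have h8 : ¬ IsSquare μ' := fun k => hb (h4 ▸ sq g' μ' (h4 ▸ b.2.1) h5 k)
  have h9 : ((b * a : ↥(F.Aut ⊓ Lin A)) : RingAut A) = cj A (g' * g) := by rw [map_mul, ← h1, ← h4]; rfl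
  rw [h9]
  refine sq _ (μ' * μ) (h9 ▸ (b * a).2.1) ?_ ?_
  · rw [Units.val_mul, star_mul, mul_assoc, ← mul_assoc (star (g' : A)), h5, ← mul_assoc, cen_comm μ'.2.1, mul_assoc, h2]
    rfl
  · rw [← quadraticChar_one_iff_isSquare (mul_ne_zero h6 h3), map_mul, quadraticChar_neg_one_iff_not_isSquare.2 h7,
      quadraticChar_neg_one_iff_not_isSquare.2 h8]
    rfl

/-- **the projective conformal group** -/
theorem card_conf_le (ss : SS A) (F : FR A) : Nat.card ↥(F.Aut ⊓ Lin A) * Nat.card (UC A) ≤ 2 * Nat.card F.Iso := by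
  have h1 := Subgroup.index_mul_card (F.PI.subgroupOf (F.Aut ⊓ Lin A))
  rw [Nat.card_congr (Subgroup.subgroupOfEquivOfLe (le_inf F.PI_le_Aut F.PI_le_Lin)).toEquiv] at h1
  rw [← h1, ← card_PI F, mul_assoc]
  exact Nat.mul_le_mul_right _ (Nat.le_of_dvd two_pos (relIndex_PI ss F))

end conf

end Cfsg.Agent.N2C.Size
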