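import Cfsg.Agent.N2.Tool
import Cfsg.Agent.TH.Cl.Defs

/-!
# N2 (S3519), classical socles: interface (helper89)

Frame of `DS/Cl`, `SB/Cl`, `TH/Cl`: `F : FR A`, `T = F.S`, `H ≤ F.Aut`, the point stabiliser in `T` is `H ⊓ F.S`.
The namespace is `N2C` (so that `Inv`, `cj` are the ones of `DS.Cl`).  See `notes/N2/cl.md`.
-/

set_option autoImplicit false

namespace Cfsg.Agent.N2C

open Cfsg Cfsg.Agent.DS.Cl Cfsg.Agent.DS.Cl.Fwd Module
open Cfsg.Agent.FP3 (Good MI ASRow)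
open Cfsg.Agent.N2 (Cf Fam Row fL fS fU fO fP fM)
open Cfsg.Agent.SB.Cl (rk rkL)
open Cfsg.Agent.TH.Cl (ParD NSD Irr1 Irr2 FldD TenD ExD SimD KL KU KSp KO Pred)

section defs

variable {A : Type} [Ring A] [StarRing A]

/-- the automorphisms of `F.S` induced by `H` -/
def gam (F : FR A) (H : Subgroup (RingAut A)) : Subgroup (MulAut F.S) where
  carrier := {σ | ∃ γ ∈ H, ∀ s : F.S, ((σ s : F.S) : RingAut A) = γ * s * γ⁻¹}
  one_mem' := ⟨1, one_mem _, fun s => by simp⟩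
  mul_mem' := by
    rintro σ τ ⟨γ, hγ, h⟩ ⟨δ, hδ, h'⟩
    exact ⟨γ * δ, mul_mem hγ hδ, fun s => by rw [MulAut.mul_apply, h, h']; group⟩
  inv_mem' := by
    rintro σ ⟨γ, hγ, h⟩
    refine ⟨γ⁻¹, inv_mem hγ, fun s => ?_⟩
    have h1 := h (σ⁻¹ s)
    rw [MulAut.apply_inv_self] at h1
    rw [h1]
    group

/-- the standing hypotheses; parabolic subgroups are excluded by `op`, `idx` (`N2.Par.asRow_of`) -/
structure Ctx (F : FR A) (H : Subgroup (RingAut A)) (p : ℕ) : Prop where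
  cf : Cf
  ss : SS A
  span : F.Span
  simple : IsSimpleGroup F.S
  noncomm : ¬ IsMulCommutative F.S
  le : H ≤ F.Aut
  mi : MI (H.subgroupOf F.S) (gam F H)
  prime : p.Prime
  char : (p : A) = 0
  op : pCore p ↥(H.subgroupOf F.S) = ⊥
  idx : p ∣ (H.subgroupOf F.S).index

/-- the goal -/
def Gd (F : FR A) (H : Subgroup (RingAut A)) : Prop := Good (H.subgroupOf F.S)

/-- C1: a fixed non-degenerate subspace (linear groups: a fixed decomposition `V = U ⊕ W`) -/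
def FixD (H : Subgroup (RingAut A)) : Prop :=
  ∃ e : A, e ≠ 0 ∧ e ≠ 1 ∧ e * e = e ∧ star e = e ∧ ∀ γ ∈ H, γ e = e

/-- C2: an orthogonal decomposition permuted transitively -/
def FrT (H : Subgroup (RingAut A)) : Prop :=
  Irr H ∧ ¬ FixD H ∧ ∃ D : Finset A, Fr D ∧ Inv H D ∧ ∀ e ∈ D, ∀ e' ∈ D, ∃ γ ∈ H, γ e = e'

/-- C5, C8: `H ⊓ F.S` is the centraliser of a field, graph or graph-field automorphism of prime order -/
def SubD (F : FR A) (H : Subgroup (RingAut A)) : Prop :=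
  SimD F H ∧ ∃ φ ∈ F.Aut, φ ∉ Lin A ∧ (orderOf φ).Prime ∧ ∀ γ ∈ H, γ * φ = φ * γ

/-- C8: orthogonal groups in symplectic groups of characteristic two -/
def QuadD (F : FR A) (H : Subgroup (RingAut A)) : Prop :=
  SimD F H ∧ F.L ≠ Lmin A ∧ ∃ l : A, l + star l = 1 ∧ ∀ γ ∈ H, γ l - l ∈ Lmin A

/-- the perfect group of lifts -/
def lft (F : FR A) (N : Subgroup (RingAut A)) : Subgroup Aˣ := ⁅N.comap (cj A) ⊓ F.Iso, N.comap (cj A) ⊓ F.Iso⁆

/-- class S: the lifts of the simple group `N` generate the ring `A` (absolutely irreducible, no subfield, no other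
bilinear or hermitian form) and fix no other quadratic form -/
structure Res (F : FR A) (H N : Subgroup (RingAut A)) : Prop where
  le : N ≤ H ⊓ F.S
  nrm : Main.Nrm H N
  simple : IsSimpleGroup N
  noncomm : ¬ IsMulCommutative N
  span : Subring.closure ((fun u : Aˣ => (u : A)) '' lft F N) = ⊤
  quad : ∀ l : A, l + star l = 1 → (∀ u ∈ lft F N, (u : A) * l * star (u : A) - l ∈ Lmin A) → F.L = Lmin A

/-- class S with the socle in the family `Q` -/
def ResD (Q : ℕ → Fam) (F : FR A) (H : Subgroup (RingAut A)) : Prop :=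
  Irr2 H ∧ ¬ TenD H ∧ ∃ N, Res F H N ∧ Q (ringChar A) N

end defs

/-! ### rows -/

def OnL (n₀ : ℕ) (P : Pred) : Prop := ∀ (K : Type) [Field K] [Fintype K] (n : ℕ) (F : FR (LR (Fin n) K))
  (H : Subgroup (RingAut (LR (Fin n) K))) (p : ℕ), KL F → n₀ ≤ n → Ctx F H p → P _ F H rkL → Gd F H

def OnU (n₀ : ℕ) (P : Pred) : Prop := ∀ (K V : Type) [Field K] [Fintype K] [AddCommGroup V] [Module K V] [Finite V]
  (h : HF K V) (F : FR h.EB) (q : ℕ) (H : Subgroup (RingAut h.EB)) (p : ℕ), KU h F q → n₀ ≤ finrank K V → Ctx F H p →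
  P _ F H (rk h) → Gd F H

def OnSp (k₀ : ℕ) (P : Pred) : Prop := ∀ (K V : Type) [Field K] [Fintype K] [AddCommGroup V] [Module K V] [Finite V]
  (h : HF K V) (F : FR h.EB) (k : ℕ) (H : Subgroup (RingAut h.EB)) (p : ℕ), KSp h F k → k₀ ≤ k → Ctx F H p →
  P _ F H (rk h) → Gd F H

def OnO (P : Pred) : Prop := ∀ (K V : Type) [Field K] [Fintype K] [AddCommGroup V] [Module K V] [Finite V]
  (h : HF K V) (F : FR h.EB) (Q : QuadraticForm K V) (H : Subgroup (RingAut h.EB)) (p : ℕ), KO h F Q → Ctx F H p →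
  P _ F H (rk h) → Gd F H

/-- all four kinds: `L_n`, `U_n` for `n ≥ 5`, `Sp_{2k}` for `k ≥ 3`, `O_n` for `n ≥ 7` -/
structure On (P : Pred) : Prop where
  l : OnL 5 P
  u : OnU 5 P
  sp : OnSp 3 P
  o : OnO P

/-! ### the classes as predicates -/

def pPar : Pred := fun _ _ _ F H _ => ParD F H
def pNS : Pred := fun _ _ _ F H _ => NSD F H
def pFix : Pred := fun _ _ _ _ H _ => FixD H
def pFr : Pred := fun _ _ _ _ H _ => FrT H
def pFld : Pred := fun _ _ _ _ H _ => FldD H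
def pTen : Pred := fun _ _ _ _ H _ => TenD H
def pExt : Pred := fun _ _ _ F H _ => ExD F H
def pSub : Pred := fun _ _ _ F H _ => SubD F H
def pQuad : Pred := fun _ _ _ F H _ => QuadD F H
def pRes (Q : ℕ → Fam) : Pred := fun _ _ _ F H _ => ResD Q F H
def pAll : Pred := fun _ _ _ _ _ _ => True

/-- socle of Lie type in the defining characteristic -/
def qDef : ℕ → Fam := fun p N _ => IsLieTypeChar p N
/-- alternating socle -/
def qAlt : ℕ → Fam := fun p N _ => ¬ IsLieTypeChar p N ∧ IsAlternating N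
/-- sporadic socle, Tits group -/
def qSpor : ℕ → Fam := fun p N _ => ¬ IsLieTypeChar p N ∧ (IsSporadicGroup N ∨ Lie.IsoTits N)
/-- socle of Lie type in another characteristic -/
def qCross : ℕ → Fam := fun p N _ => ¬ IsLieTypeChar p N ∧ ¬ IsAlternating N ∧ ∃ r : ℕ, r.Prime ∧ IsLieTypeChar r N

/-- [Cases] Aschbacher's case division -/
def BoxCases : Prop := ∀ (A : Type) [Ring A] [StarRing A] [Finite A] (F : FR A) (H : Subgroup (RingAut A)) (p : ℕ),
  Ctx F H p → ParD F H ∨ NSD F H ∨ FixD H ∨ FrT H ∨ FldD H ∨ TenD H ∨ ExD F H ∨ SubD F H ∨ QuadD F H ∨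
    ResD qDef F H ∨ ResD qAlt F H ∨ ResD qSpor F H ∨ ResD qCross F H

/-- all classes -/
structure Geo : Prop where
  par : On pPar
  ns : On pNS
  fix : On pFix
  fr : On pFr
  fld : On pFld
  ten : On pTen
  ext : On pExt
  sub : On pSub
  quad : On pQuad
  sdef : On (pRes qDef)
  salt : On (pRes qAlt)
  sspor : On (pRes qSpor)
  scross : On (pRes qCross)

theorem main_of (hc : BoxCases) (g : Geo) : On pAll := by
  refine ⟨fun K _ _ n F H p k hn c _ => ?_, fun K V _ _ _ _ _ f F q H p k hn c _ => ?_,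
    fun K V _ _ _ _ _ f F q H p k hn c _ => ?_, fun K V _ _ _ _ _ f F q H p k c _ => ?_⟩ <;>
    rcases hc _ F H p c with h | h | h | h | h | h | h | h | h | h | h | h | h
  exacts [g.par.l K n F H p k hn c h, g.ns.l K n F H p k hn c h, g.fix.l K n F H p k hn c h, g.fr.l K n F H p k hn c h,
    g.fld.l K n F H p k hn c h, g.ten.l K n F H p k hn c h, g.ext.l K n F H p k hn c h, g.sub.l K n F H p k hn c h,
    g.quad.l K n F H p k hn c h, g.sdef.l K n F H p k hn c h, g.salt.l K n F H p k hn c h,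
    g.sspor.l K n F H p k hn c h, g.scross.l K n F H p k hn c h,
    g.par.u K V f F q H p k hn c h, g.ns.u K V f F q H p k hn c h, g.fix.u K V f F q H p k hn c h,
    g.fr.u K V f F q H p k hn c h, g.fld.u K V f F q H p k hn c h, g.ten.u K V f F q H p k hn c h,
    g.ext.u K V f F q H p k hn c h, g.sub.u K V f F q H p k hn c h, g.quad.u K V f F q H p k hn c h,
    g.sdef.u K V f F q H p k hn c h, g.salt.u K V f F q H p k hn c h, g.sspor.u K V f F q H p k hn c h,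
    g.scross.u K V f F q H p k hn c h,
    g.par.sp K V f F q H p k hn c h, g.ns.sp K V f F q H p k hn c h, g.fix.sp K V f F q H p k hn c h,
    g.fr.sp K V f F q H p k hn c h, g.fld.sp K V f F q H p k hn c h, g.ten.sp K V f F q H p k hn c h,
    g.ext.sp K V f F q H p k hn c h, g.sub.sp K V f F q H p k hn c h, g.quad.sp K V f F q H p k hn c h,
    g.sdef.sp K V f F q H p k hn c h, g.salt.sp K V f F q H p k hn c h, g.sspor.sp K V f F q H p k hn c h,
    g.scross.sp K V f F q H p k hn c h,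
    g.par.o K V f F q H p k c h, g.ns.o K V f F q H p k c h, g.fix.o K V f F q H p k c h,
    g.fr.o K V f F q H p k c h, g.fld.o K V f F q H p k c h, g.ten.o K V f F q H p k c h,
    g.ext.o K V f F q H p k c h, g.sub.o K V f F q H p k c h, g.quad.o K V f F q H p k c h,
    g.sdef.o K V f F q H p k c h, g.salt.o K V f F q H p k c h, g.sspor.o K V f F q H p k c h,
    g.scross.o K V f F q H p k c h]

/-! ### the bridge -/

def fLn (n : ℕ) : Fam := fun T _ => ∃ (K : Type) (_ : Field K) (_ : Fintype K), (n = 2 → 4 ≤ Fintype.card K) ∧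
  Nonempty (T ≃* Matrix.ProjectiveSpecialLinearGroup (Fin n) K)

def fUn (n : ℕ) : Fam := fun T _ => ∃ (K : Type) (_ : Field K) (_ : Fintype K) (q : ℕ), Fintype.card K = q ^ 2 ∧
  ¬ (n = 3 ∧ q = 2) ∧ Nonempty (T ≃* PSU n K q)

def fSk (k : ℕ) : Fam := fun T _ => ∃ (K : Type) (_ : Field K) (_ : Fintype K), (k = 2 → 3 ≤ Fintype.card K) ∧
  Nonempty (T ≃* PSp k K)

def fP4 : Fam := fun T _ => ∃ (K : Type) (_ : Field K) (_ : Fintype K), Nonempty (T ≃* POmega K (quadFormPlus 4 K))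

/-- [Br] linear groups, one dimension at a time (also for `n = 3, 4`) -/
def BrL : Prop := Cf → ∀ n, 3 ≤ n → (∀ (K : Type) [Field K] [Fintype K] (F : FR (LR (Fin n) K))
  (H : Subgroup (RingAut (LR (Fin n) K))) (p : ℕ), KL F → Ctx F H p → Gd F H) → Row (fLn n)

/-- [Br] unitary groups -/
def BrU : Prop := Cf → ∀ n, 3 ≤ n → (∀ (K V : Type) [Field K] [Fintype K] [AddCommGroup V] [Module K V] [Finite V]
  (h : HF K V) (F : FR h.EB) (q : ℕ) (H : Subgroup (RingAut h.EB)) (p : ℕ), KU h F q → finrank K V = n → Ctx F H p →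
  Gd F H) → Row (fUn n)

/-- [Br] symplectic groups; for `Sp₄(2^a)` only the groups `Γ` without graph automorphisms -/
def BrSp : Prop := Cf → ∀ k, 2 ≤ k → (∀ (K V : Type) [Field K] [Fintype K] [AddCommGroup V] [Module K V] [Finite V]
  (h : HF K V) (F : FR h.EB) (H : Subgroup (RingAut h.EB)) (p : ℕ), KSp h F k → Ctx F H p → Gd F H) →
  ∀ (K : Type) [Field K] [Fintype K], (k = 2 → 3 ≤ Fintype.card K) → ∀ (B : Subgroup (PSp k K))
    (Γ : Subgroup (MulAut (PSp k K))), MI B Γ →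
    (3 ≤ k ∨ (2 : K) ≠ 0 ∨ Γ ≤ (Cfsg.Agent.ClassicalGeometry.SympAutSemi.Psi k K).range) → Good B

/-- [D4] `PΩ₈⁺(q)` -/
def BoxD4 : Prop := Cf → OnO pAll → Row fP4

/-- [Br] orthogonal groups -/
def BrO : Prop := Cf → OnO pAll → Row fP4 → Row fO ∧ Row fP ∧ Row fM

/-- the small dimensions -/
structure Low : Prop where
  l2 : Row (fLn 2)
  l3 : Row (fLn 3)
  l4 : Row (fLn 4)
  u3 : Row (fUn 3)
  u4 : Row (fUn 4)
  s2 : Row (fSk 2)

/-- **the six classical rows** -/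
theorem rows_of (cf : Cf) (bL : BrL) (bU : BrU) (bS : BrSp) (bO : BrO) (d4 : BoxD4) (low : Low) (m : On pAll) :
    Row fL ∧ Row fS ∧ Row fU ∧ Row fO ∧ Row fP ∧ Row fM := by
  refine ⟨?_, ?_, ?_, bO cf m.o (d4 cf m.o)⟩
  · rintro T _ _ _ hn ⟨K, _, _, n, h2, h4, he⟩
    by_cases h5 : 5 ≤ n
    · exact bL cf n (by omega) (fun K _ _ F H p k c => m.l K n F H p k h5 c trivial) T hn ⟨K, _, _, h4, he⟩
    obtain rfl | rfl | rfl : n = 2 ∨ n = 3 ∨ n = 4 := by omega
    exacts [low.l2 T hn ⟨K, _, _, h4, he⟩, low.l3 T hn ⟨K, _, _, h4, he⟩, low.l4 T hn ⟨K, _, _, h4, he⟩]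
  · rintro T _ _ _ hn ⟨K, _, _, k, h2, h4, ⟨e⟩⟩
    by_cases h3 : 3 ≤ k
    · exact N2.asRow_congr e.symm fun B Γ hB => bS cf k h2
        (fun K V _ _ _ _ _ f F H p j c => m.sp K V f F k H p j h3 c trivial) K h4 B Γ hB (Or.inl h3)
    obtain rfl : k = 2 := by omega
    exact low.s2 T hn ⟨K, _, _, h4, ⟨e⟩⟩
  · rintro T _ _ _ hn ⟨K, _, _, n, q, hq, h3, h4, he⟩
    by_cases h5 : 5 ≤ n
    · exact bU cf n h3 (fun K V _ _ _ _ _ f F q H p k hn c => m.u K V f F q H p k (hn ▸ h5) c trivial) T hn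
        ⟨K, _, _, q, hq, h4, he⟩
    obtain rfl | rfl : n = 3 ∨ n = 4 := by omega
    exacts [low.u3 T hn ⟨K, _, _, q, hq, h4, he⟩, low.u4 T hn ⟨K, _, _, q, hq, h4, he⟩]

/-! ### basic consequences of `Ctx` -/

namespace Ctx

variable {A : Type} [Ring A] [StarRing A] {F : FR A} {H : Subgroup (RingAut A)} {p : ℕ} (c : Ctx F H p)
include c

theorem le_SAut : H ≤ SAut A := c.le.trans F.Aut_le_SAut

theorem ringChar_eq : ringChar A = p := by
  have := c.ss.1
  exact ((Nat.dvd_prime c.prime).1 (ringChar.dvd c.char)).resolve_left CharP.ringChar_ne_one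

theorem not_le : ¬ F.S ≤ H := fun h => c.mi.ne_top (Subgroup.subgroupOf_eq_top.2 h)

theorem inf_ne_bot : H ⊓ F.S ≠ ⊥ := fun h => c.mi.ne_bot (Subgroup.subgroupOf_eq_bot.2 (disjoint_iff.2 h))

theorem conj_inf {γ s : RingAut A} (hγ : γ ∈ H) (hs : s ∈ H ⊓ F.S) : γ * s * γ⁻¹ ∈ H ⊓ F.S :=
  ⟨H.mul_mem (H.mul_mem hγ hs.1) (H.inv_mem hγ), FR.conj_mem_S (c.le hγ) hs.2⟩

/-- **maximality**: an `H`-invariant subgroup which contains `H ⊓ F.S` and not `F.S` meets `F.S` in `H ⊓ F.S` -/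
theorem max {B : Subgroup (RingAut A)} (h1 : H ⊓ F.S ≤ B) (h2 : ∀ γ ∈ H, ∀ b ∈ B, b ∈ F.S → γ * b * γ⁻¹ ∈ B)
    (h3 : ¬ F.S ≤ B) {s : RingAut A} (hs : s ∈ F.S) (hb : s ∈ B) : s ∈ H := by
  rcases c.mi.max (B.subgroupOf F.S) (fun x hx => h1 ⟨hx, x.2⟩) (by
    rintro σ ⟨γ, hγ, h⟩ b hb
    rw [Subgroup.mem_subgroupOf, h]
    exact h2 γ hγ b hb b.2) with h | h
  · exact (h.le (show (⟨s, hs⟩ : F.S) ∈ B.subgroupOf F.S from hb) :)
  · exact absurd (Subgroup.subgroupOf_eq_top.1 h) h3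

/-- an overgroup of `H` which does not contain `F.S` -/
theorem max' {M : Subgroup (RingAut A)} (h1 : H ≤ M) (h3 : ¬ F.S ≤ M) {s : RingAut A} (hs : s ∈ F.S) (hb : s ∈ M) :
    s ∈ H :=
  c.max (inf_le_left.trans h1) (fun _ hγ _ hb _ => mul_mem (mul_mem (h1 hγ) hb) (inv_mem (h1 hγ))) h3 hs hb

/-- **`H ⊓ F.S` is the stabiliser** of every point fixed by `H` and not by `F.S` -/
theorem mem_of_smul {X : Type*} [MulAction (RingAut A) X] {x : X} (h1 : ∀ γ ∈ H, γ • x = x) (h2 : ¬ ∀ s ∈ F.S, s • x = x)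
    {s : RingAut A} (hs : s ∈ F.S) (hx : s • x = x) : s ∈ H :=
  c.max' (M := MulAction.stabilizer _ x) h1 h2 hs hx

/-- the cosets of `H ⊓ F.S` are the points of the orbit -/
theorem gd_of_smul [Finite A] {X : Type*} [MulAction (RingAut A) X] {x : X} (h1 : ∀ γ ∈ H, γ • x = x)
    (h2 : ¬ ∀ s ∈ F.S, s • x = x) {a : RingAut A} (ha : a ∈ F.S) (hx : a • x = x)
    (h : {y | (∃ s ∈ F.S, s • x = y) ∧ a • y = y}.ncard ^ 3 ≤ {y | ∃ s ∈ F.S, s • x = y}.ncard) : Gd F H := by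
  have e : H.subgroupOf F.S = MulAction.stabilizer F.S x :=
    Subgroup.ext fun s => ⟨h1 s, c.mem_of_smul h1 h2 s.2⟩
  have e1 : MulAction.orbit F.S x = {y | ∃ s ∈ F.S, s • x = y} :=
    Set.ext fun y => ⟨fun ⟨s, hs⟩ => ⟨s, s.2, hs⟩, fun ⟨s, hs, h⟩ => ⟨⟨s, hs⟩, h⟩⟩
  unfold Gd
  rw [e]
  refine ⟨⟨a, ha⟩, hx, ?_⟩
  rw [MulAction.index_stabilizer, e1]
  refine le_trans (Nat.pow_le_pow_left (le_of_eq ?_) 3) h
  let f : F.S ⧸ MulAction.stabilizer F.S x → X := MulAction.ofQuotientStabilizer F.S x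
  have hf : Function.Injective f := MulAction.injective_ofQuotientStabilizer F.S x
  rw [FP3.fx, Nat.card_coe_set_eq, ← Set.ncard_image_of_injective _ hf]
  congr 1
  ext y
  constructor
  · rintro ⟨z, hz, rfl⟩
    refine ⟨e1.le (MulAction.ofQuotientStabilizer_mem_orbit F.S x z), ?_⟩
    exact (MulAction.ofQuotientStabilizer_smul F.S x ⟨a, ha⟩ z).symm.trans (congrArg f hz)
  · rintro ⟨⟨s, hs, rfl⟩, h3⟩
    exact ⟨((⟨s, hs⟩ : F.S) : F.S ⧸ MulAction.stabilizer F.S x),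
      hf ((MulAction.ofQuotientStabilizer_smul F.S x ⟨a, ha⟩ _).trans h3), rfl⟩

/-- the same for subsets of the ring -/
theorem mem_of_inv [Finite A] {X : Set A} (hX : Inv H X) (hS : ¬ Inv F.S X) {s : RingAut A} (hs : s ∈ F.S)
    (h : ∀ x ∈ X, s x ∈ X) : s ∈ H := by
  have : Finite (RingAut A) := Finite.of_injective (fun γ : RingAut A => (γ : A → A)) DFunLike.coe_injective
  let M : Submonoid (RingAut A) :=
    { carrier := {γ | ∀ x ∈ X, γ x ∈ X}
      one_mem' := fun _ hx => hx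
      mul_mem' := fun ha hb x hx => ha _ (hb x hx) }
  let M' : Subgroup (RingAut A) :=
    { M with
      inv_mem' := fun {γ} hγ => by
        have h1 : γ⁻¹ = γ ^ (orderOf γ - 1) := by
          rw [inv_eq_iff_mul_eq_one, ← pow_succ', Nat.sub_add_cancel (orderOf_pos γ), pow_orderOf_eq_one]
        exact h1 ▸ M.pow_mem hγ _ }
  exact c.max' (M := M') hX hS hs h

/-- `H ⊓ F.S` is the normaliser of every proper `H`-invariant subgroup -/
theorem mem_of_norm {N : Subgroup (RingAut A)} (hN : N ≤ H ⊓ F.S) (h0 : N ≠ ⊥) (hn : Main.Nrm H N) {s : RingAut A}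
    (hs : s ∈ F.S) (h : s ∈ Subgroup.normalizer (N : Set (RingAut A))) : s ∈ H := by
  refine c.max' (M := Subgroup.normalizer (N : Set (RingAut A))) (fun γ hγ => Subgroup.mem_normalizer_iff.2 fun x =>
    ⟨hn γ hγ x, fun hx => by simpa [mul_assoc] using hn _ (H.inv_mem hγ) _ hx⟩) (fun h1 => ?_) hs h
  have := c.simple
  have h2 : (N.subgroupOf F.S).Normal := ⟨fun x hx g => (Subgroup.mem_normalizer_iff.1 (h1 g.2) x).1 hx⟩
  rcases h2.eq_bot_or_eq_top with h3 | h3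
  · exact h0 (eq_bot_iff.2 fun x hx => (Subgroup.subgroupOf_eq_bot.1 h3).le_bot ⟨hx, (hN hx).2⟩)
  · exact c.not_le ((Subgroup.subgroupOf_eq_top.1 h3).trans (hN.trans inf_le_left))

end Ctx

end Cfsg.Agent.N2C
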