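import Cfsg.Agent.N2.Cl.Cases.Main
import Cfsg.Agent.N2.Cl.Br.Main
import Cfsg.Agent.N2.Cl.Par.Main
import Cfsg.Agent.N2.Cl.NS.Main
import Cfsg.Agent.N2.Cl.Quad.Main
import Cfsg.Agent.N2.C1.L
import Cfsg.Agent.N2.C1.U
import Cfsg.Agent.N2.Cl.FixO.Main
import Cfsg.Agent.N2.Cl.FrL.Main
import Cfsg.Agent.N2.Cl.FrU.Main
import Cfsg.Agent.N2.Cl.FrSp.Many
import Cfsg.Agent.N2.Cl.FldLU.ExU
import Cfsg.Agent.N2.Cl.FldSp.Main
import Cfsg.Agent.N2.Cl.Fld.O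
import Cfsg.Agent.N2.Cl.Ten.Main
import Cfsg.Agent.N2.Cl.Ext.Main
import Cfsg.Agent.N2.Cl.Sub.Main
import Cfsg.Agent.N2.Cl.RAlt.Main
import Cfsg.Agent.N2.Cl.RX.Rp0
import Cfsg.Agent.N2.Cl.RX.Semi
import Cfsg.Agent.N2.Cl.RX.Green
import Cfsg.Agent.N2.Cl.RD.Defs
import Cfsg.Agent.N2.L2.Main
import Cfsg.Agent.N2.D4m.Defs

/-!
# N2 classical (helper89): assembly of the finished boxes
-/

set_option autoImplicit false

namespace Cfsg.Agent.N2C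

open Cfsg.Agent.N2 (Cf Row fL fS fU fO fP fM)

/-- the boxes which are still open -/
structure Rest : Prop where
  frO : OnO pFr
  tenSp : OnSp 3 pTen
  tenO : OnO pTen
  sdef : On (pRes qDef)
  spor : RX.RowX qSpor
  cross : RX.RowX qCross

theorem geo_of (r : Rest) : Geo :=
  ⟨par, ns, ⟨fixL, fixU, fixSp, fixO⟩, ⟨frL, frU, frSp, r.frO⟩, ⟨fldL, fldU, fldSp, fldO⟩, ⟨tenL, tenU, r.tenSp, r.tenO⟩, ext,
    sub, quad, r.sdef, RAlt.onAlt RX.boxRp0 RX.boxSemi RX.boxGreen, RX.on_of RX.boxRp0 RX.boxSemi RX.boxGreen r.spor,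
    RX.on_of RX.boxRp0 RX.boxSemi RX.boxGreen r.cross⟩

theorem rows_of_rest (cf : Cf) (r : Rest) (d4 : BoxD4) (low : Low) :
    Row fL ∧ Row fS ∧ Row fU ∧ Row fO ∧ Row fP ∧ Row fM :=
  rows_of cf brL brU brSp brO d4 low (main_of boxCases (geo_of r))

end Cfsg.Agent.N2C
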