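import Cfsg.Agent.N2.Cl.Asm
import Cfsg.Agent.N2.Cl.FrO.Main
import Cfsg.Agent.N2.Cl.TenSO.Main
import Cfsg.Agent.N2.Cl.RSp.Row
import Cfsg.Agent.N2.Cl.RX.LieMain
import Cfsg.Agent.N2.Cl.RD.Part2
import Cfsg.Agent.N2.Cl.D4.WRes
import Cfsg.Agent.N2.D4m.Low

/-!
# N2 classical (helper89): second assembly
-/

set_option autoImplicit false

namespace Cfsg.Agent.N2C

open Cfsg.Agent.N2 (Cf Row fL fS fU fO fP fM)

theorem RD.rows_of (u4 : RD.Row (RD.fU 4)) (u5 : RD.Row (RD.fU 5)) (u : ∀ m, 6 ≤ m → RD.Row (RD.fU m))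
    (c3 : RD.Row (RD.fC 3)) (b3 : RD.Row (RD.fB 3)) (td4 : RD.Row RD.f3D4) : RD.Rows :=
  ⟨RD.rowA1, RD.row_a2, RD.row_a 4 le_rfl, fun m h => RD.row_a m (by omega), RD.U3.rowU3, u4, u5, u, RD.rowC2, c3, RD.rowC,
    b3, RD.rowB, RD.rowD4, RD.rowD, RD.rowM4, RD.rowM, RD.G2.row, RD.row_f4, RD.row_e6, RD.row_e7, RD.row_e8, RD.row_te6,
    td4, RD.row_szD, RD.row_tf4, RD.row_reeD⟩

/-- the six classical rows from class S in the defining characteristic and the triality box -/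
theorem rows_of2 (cf : Cf) (R : RD.Rows) (d4 : D4.WRes → BoxD4) :
    Row fL ∧ Row fS ∧ Row fU ∧ Row fO ∧ Row fP ∧ Row fM :=
  rows_of_rest cf ⟨frO, tenSp, tenO, RD.sdef_of R, RSp.rowSpor, RX.Li.rowCross⟩
    (d4 (D4.wres_of RSp.rowSpor RX.Li.rowCross R)) (low cf)

end Cfsg.Agent.N2C
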