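import Cfsg.Agent.N2.Cl.Asm2
import Cfsg.Agent.N2.Cl.D4All89
import Cfsg.Agent.N2.Cl.RD.C3

/-!
# N2 classical (helper89): third assembly
-/

set_option autoImplicit false

namespace Cfsg.Agent.N2C

open Cfsg.Agent.N2 (Cf Row fL fS fU fO fP fM)

/-- the six classical rows from the last rows of class S in the defining characteristic -/
theorem rows_of3 (cf : Cf) (u4 : RD.Row (RD.fU 4)) (u5 : RD.Row (RD.fU 5)) (u : ∀ m, 6 ≤ m → RD.Row (RD.fU m))
    (td4 : RD.Row RD.f3D4) : Row fL ∧ Row fS ∧ Row fU ∧ Row fO ∧ Row fP ∧ Row fM :=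
  rows_of2 cf (RD.rows_of u4 u5 u RD.row_c3 RD.row_b3 td4) D4.A89.boxD4

end Cfsg.Agent.N2C
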