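import Cfsg.Agent.N2.Cl.Defs
import Cfsg.Agent.DS.Cl.P5

/-!
# N2 classical: every form ring is of one of the four kinds (helper89)

`SI e` star preserving isomorphisms, `fm F e` the transported form structure, `exists_kind`.
-/

set_option autoImplicit false
set_option linter.unusedSectionVars false
set_option maxHeartbeats 200000

namespace Cfsg.Agent.N2C.Size

open Cfsg Cfsg.Agent.DS.Cl Cfsg.Agent.DS.Cl.Fwd Module
open Cfsg.Agent.SB.Cl (IsU IsSp IsO)

variable {A B : Type} [Ring A] [StarRing A] [Ring B] [StarRing B]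

/-- `e` preserves the involution -/
def SI (e : A ≃+* B) : Prop := ∀ a, e (star a) = star (e a)

theorem SI.symm {e : A ≃+* B} (h : SI e) : SI e.symm := fun b => e.injective (by
  rw [h, e.apply_symm_apply, e.apply_symm_apply])

theorem SI.mem_Lmin {e : A ≃+* B} (h : SI e) {x : A} : e x ∈ Lmin B ↔ x ∈ Lmin A :=
  ⟨fun ⟨b, hb⟩ => ⟨e.symm b, e.injective (by rw [map_sub, h, e.apply_symm_apply, hb])⟩,
    fun ⟨a, ha⟩ => ⟨e a, by rw [ha, map_sub, h]⟩⟩

theorem SI.mem_Lmax {e : A ≃+* B} (h : SI e) {x : A} : e x ∈ Lmax B ↔ x ∈ Lmax A := by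
  change star (e x) = -e x ↔ star x = -x
  rw [← h, ← map_neg, e.injective.eq_iff]

/-- the transported form structure -/
def fm (F : FR A) {e : A ≃+* B} (h : SI e) : FR B where
  l := e F.l
  L := F.L.comap e.symm.toAddMonoidHom
  l_add := by rw [← h, ← map_add, F.l_add, map_one]
  par := F.par.imp (fun k => AddSubgroup.ext fun x => by rw [k]; exact h.symm.mem_Lmin)
    fun k => AddSubgroup.ext fun x => by rw [k]; exact h.symm.mem_Lmax

variable {F : FR A} {e : A ≃+* B} (h : SI e)

theorem mem_fm_L {x : A} : e x ∈ (fm F h).L ↔ x ∈ F.L := by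
  change e.symm (e x) ∈ F.L ↔ _
  rw [e.symm_apply_apply]

theorem fm_L_min (k : F.L = Lmin A) : (fm F h).L = Lmin B :=
  AddSubgroup.ext fun x => by change e.symm x ∈ F.L ↔ _; rw [k]; exact h.symm.mem_Lmin

theorem fm_L_max (k : F.L = Lmax A) : (fm F h).L = Lmax B :=
  AddSubgroup.ext fun x => by change e.symm x ∈ F.L ↔ _; rw [k]; exact h.symm.mem_Lmax

theorem mem_fm_Iso {u : Aˣ} : Units.mapEquiv e.toMulEquiv u ∈ (fm F h).Iso ↔ u ∈ F.Iso := by
  change e u * star (e u) = 1 ∧ e u * e F.l * star (e u) - e F.l ∈ (fm F h).L ↔ _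
  rw [← h, ← map_mul, ← map_mul, ← map_mul, ← map_sub, mem_fm_L, map_eq_one_iff _ e.injective]
  rfl

theorem map_Iso : F.Iso.map (Units.mapEquiv e.toMulEquiv).toMonoidHom = (fm F h).Iso := by
  ext v
  obtain ⟨u, rfl⟩ := (Units.mapEquiv e.toMulEquiv).surjective v
  exact (Subgroup.mem_map_iff_mem (Units.mapEquiv e.toMulEquiv).injective).trans (mem_fm_Iso h).symm

theorem card_fm_Iso : Nat.card (fm F h).Iso = Nat.card F.Iso := by
  rw [← map_Iso h]
  exact Subgroup.card_map_of_injective (Units.mapEquiv e.toMulEquiv).injective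

theorem card_fm_L : Nat.card (fm F h).L = Nat.card F.L :=
  (Nat.card_congr (e.toEquiv.subtypeEquiv fun _ => (mem_fm_L h).symm)).symm

omit [StarRing A] [StarRing B] in
theorem mem_center_map (e : A ≃+* B) {x : A} : e x ∈ Subring.center B ↔ x ∈ Subring.center A := by
  simp only [Subring.mem_center_iff]
  exact ⟨fun k a => e.injective (by rw [map_mul, map_mul, k]), fun k b => by
    obtain ⟨a, rfl⟩ := e.surjective b
    rw [← map_mul, ← map_mul, k]⟩

/-- the kinds with a form -/
def Kd {K V : Type} [Field K] [Finite K] [AddCommGroup V] [Module K V] [Finite V] (h : HF K V) (F : FR h.EB) : Prop :=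
  (IsU h ∧ F.L = Lmax _) ∨ IsSp h F ∨ ∃ Q : QuadraticForm K V, IsO h F Q

section hf

variable {K V : Type} [Field K] [Finite K] [AddCommGroup V] [Module K V] [Finite V] (h : HF K V) (F : FR h.EB)

theorem star_scal (c : K) : star (h.eb (c • 1)) = h.eb (h.τ c • 1) := h.ap_ext fun y => h.ext_right fun u => by
  rw [h.b_star]
  change h.b (c • u) y = h.b u (h.τ c • y)
  rw [h.smul_left, h.smul_right, h.τ_τ]

theorem scal_add (c d : K) : h.eb (c • 1) + h.eb (d • 1) = h.eb ((c + d) • 1) := (add_smul c d (1 : End K V)).symm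

theorem scal_mul (c d : K) : h.eb (c • 1) * h.eb (d • 1) = h.eb ((c * d) • 1) := h.ap_ext fun v => (mul_smul c d v).symm

theorem scal_one : h.eb ((1 : K) • 1) = 1 := one_smul K (1 : End K V)

/-- bilinear forms -/
theorem kd_of_bilin (hτ : ∀ c, h.τ c = c) (hs : (∀ u v, h.b v u = h.b u v) ∨ ∀ u v, h.b v u = -h.b u v) :
    IsSp h F ∨ ∃ Q : QuadraticForm K V, IsO h F Q := by
  have hO : F.L = Lmin _ → (∀ u v, h.b v u = h.b u v) → ∃ Q : QuadraticForm K V, IsO h F Q := fun hL hb => by
    let β : V →ₗ[K] V →ₗ[K] K := LinearMap.mk₂ K (fun u v => h.b u (h.ap F.l v)) (fun _ _ _ => h.add_left _ _ _)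
      (fun _ _ _ => h.smul_left _ _ _) (fun _ _ _ => by rw [map_add, h.add_right])
      fun _ _ _ => by rw [map_smul, h.smul_right, hτ, smul_eq_mul]
    refine ⟨LinearMap.BilinMap.toQuadraticMap β, hτ, fun u v => ?_, hL, fun _ => rfl⟩
    rw [LinearMap.BilinMap.polar_toQuadraticMap]
    change _ = h.b u (h.ap F.l v) + h.b v (h.ap F.l u)
    rw [hb (h.ap F.l u), ← h.b_star, ← h.add_right, ← h.ap_add, F.l_add, h.ap_one]
  by_cases h2 : (2 : K) = 0
  · have hb : ∀ u v, h.b v u = h.b u v := hs.elim id fun k u v => by linear_combination k u v - h.b u v * h2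
    refine F.par.symm.imp (fun hL => ⟨hτ, fun v => ?_, hL⟩) fun hL => hO hL hb
    have h3 : h.b v v = h.b v (h.ap (F.l + star F.l) v) := by rw [F.l_add, h.ap_one]
    rw [h.ap_add, h.add_right, h.b_star, hb v (h.ap F.l v)] at h3
    linear_combination h3 + h.b v (h.ap F.l v) * h2
  · have h3 : h.eb ((2 : K)⁻¹ • 1) + star (h.eb ((2 : K)⁻¹ • 1)) = 1 := by
      rw [star_scal, hτ, scal_add, ← two_mul, mul_inv_cancel₀ h2, scal_one]
    have hL := F.L_eq (h.smul_mem_center _) h3
    refine hs.symm.imp (fun hb => ⟨hτ, fun v => ?_, hL⟩) fun hb =>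
      hO (hL.trans (Lmin_eq_Lmax (h.smul_mem_center _) h3).symm) hb
    have h4 : 2 * h.b v v = 0 := by linear_combination hb v v
    exact (mul_eq_zero.1 h4).resolve_left h2

theorem exists_half_U {h : HF K V} (hU : IsU h) : ∃ c : K, c + h.τ c = 1 :=
  ClassicalGeometry.InvolutiveNorm.exists_add_sigma_eq (fun k => hU.2.elim fun c hc => hc (by rw [k]; rfl)) h.τ_τ
    (map_one h.τ)

theorem L_eq_U {h : HF K V} (hU : IsU h) (F : FR h.EB) : F.L = Lmax _ ∧ Lmin h.EB = Lmax _ := by
  obtain ⟨c, hc⟩ := exists_half_U hU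
  have h3 : h.eb (c • 1) + star (h.eb (c • 1)) = 1 := by rw [star_scal, scal_add, hc, scal_one]
  exact ⟨F.L_eq (h.smul_mem_center _) h3, Lmin_eq_Lmax (h.smul_mem_center _) h3⟩

end hf

/-- **the four kinds** -/
theorem exists_kind [Finite A] (ss : SS A) (F : FR A) :
    (∃ (K : Type) (_ : Field K) (_ : Fintype K) (n : ℕ) (e : A ≃+* LR (Fin n) K), 0 < n ∧ SI e) ∨
    ∃ (K : Type) (_ : Field K) (_ : Fintype K) (n : ℕ) (h : HF K (Fin n → K)) (e : A ≃+* h.EB) (he : SI e),
      0 < n ∧ Kd h (fm F he) := by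
  rcases exists_model ss with ⟨K, _, _, n, π, hn, hπ⟩ | ⟨K, _, _, n, e, σ, b, hn, hσ, hσ2, hb, hs, hadj⟩ |
    ⟨K, _, _, n, e, b, hn, hb, hs, hadj⟩
  · left
    let m : End K (Fin n → K) ≃ₐ[K] Matrix (Fin n) (Fin n) K := LinearMap.toMatrixAlgEquiv'
    let f : A →+* LR (Fin n) K :=
      { toFun := fun a => LR.mk (m (π a)) (m (π (star a))).transpose
        map_one' := by rw [star_one, map_one, map_one, Matrix.transpose_one, LR.one_eq]
        map_mul' := fun a b => by rw [LR.mk_mul, star_mul, map_mul, map_mul, map_mul, map_mul, Matrix.transpose_mul]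
        map_zero' := by rw [star_zero, map_zero, map_zero, Matrix.transpose_zero, LR.zero_eq]
        map_add' := fun a b => by rw [LR.mk_add, star_add, map_add, map_add, map_add, map_add, Matrix.transpose_add] }
    have hf : Function.Bijective f := by
      refine ⟨fun a b k => hπ.1 (Prod.ext (m.injective (congrArg Prod.fst k))
        (m.injective (Matrix.transpose_injective (congrArg Prod.snd k)))), fun x => ?_⟩
      obtain ⟨a, ha⟩ := hπ.2 (m.symm x.1, m.symm x.2.transpose)
      refine ⟨a, Prod.ext ?_ ?_⟩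
      · exact (congrArg m (congrArg Prod.fst ha)).trans (m.apply_symm_apply _)
      · exact (congrArg Matrix.transpose ((congrArg m (congrArg Prod.snd ha)).trans (m.apply_symm_apply _))).trans
          (Matrix.transpose_transpose _)
    refine ⟨K, _, inferInstance, n, RingEquiv.ofBijective f hf, hn, fun a => ?_⟩
    change LR.mk _ (m (π (star (star a)))).transpose = star (LR.mk _ _)
    rw [LR.star_mk, star_star, Matrix.transpose_transpose]
  · right
    let h : HF K (Fin n → K) :=
      { τ := σ, ε := 1, b := fun u v => b v u, add_left := fun _ _ _ => map_add _ _ _,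
        smul_left := fun _ _ _ => map_smul _ _ _, swap := fun u v => by rw [one_mul, hb.eq], τ_τ := hσ2,
        nondeg := hs }
    have he : SI (B := h.EB) e := fun a => h.ap_ext fun y => h.ext_right fun u => by
      rw [h.b_star]
      change b (e (star a) y) u = b y (e a u)
      rw [hadj, star_star]
    have hU : IsU h := ⟨rfl, ClassicalGeometry.InvolutiveNorm.exists_sigma_ne hσ⟩
    exact ⟨K, _, inferInstance, n, h, e, he, hn, Or.inl ⟨hU, (L_eq_U hU _).1⟩⟩
  · right
    obtain ⟨ε, hε, hε'⟩ : ∃ ε : K, (ε = 1 ∨ ε = -1) ∧ ∀ u v, b u v = ε * b v u := hb.elim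
      (fun k => ⟨1, Or.inl rfl, fun u v => by rw [k, one_mul]⟩) fun k => ⟨-1, Or.inr rfl, fun u v => by rw [k, neg_one_mul]⟩
    let h : HF K (Fin n → K) :=
      { τ := RingHom.id K, ε := ε, b := fun u v => b v u, add_left := fun _ _ _ => map_add _ _ _,
        smul_left := fun _ _ _ => map_smul _ _ _, swap := fun u v => hε' u v, τ_τ := fun _ => rfl, nondeg := hs }
    have he : SI (B := h.EB) e := fun a => h.ap_ext fun y => h.ext_right fun u => by
      rw [h.b_star]
      change b (e (star a) y) u = b y (e a u)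
      rw [hadj, star_star]
    exact ⟨K, _, inferInstance, n, h, e, he, hn, Or.inr (kd_of_bilin h _ (fun _ => rfl)
      (hb.imp (fun k u v => k v u) fun k u v => k v u))⟩

end Cfsg.Agent.N2C.Size
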